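import Groth.Agent.Lib.ToposFin.RpushColim
import Groth.Agent.Lib.SiteCoh.CechAcyclic
import Groth.Agent.Lib.CechPsh.LongExact
import Mathlib.CategoryTheory.Sites.Whiskering

/-!
# Cohomology commutes with filtered colimits on a collection of finite coverings
-/

universe u

open CategoryTheory Limits Opposite Abelian

namespace Groth.Agent.Lib.CohomColim.Collection

open Groth.Agent.Lib.ToposFin Groth.Agent.Lib.SiteCoh Groth.Agent.Lib.CechPsh

variable {C : Type u} [SmallCategory C] [HasPullbacks C] {J : GrothendieckTopology C}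

/-- Finitely many stages have a common bound at which finitely many equations hold. -/
lemma exists_common_stage {I : Type u} [SmallCategory I] [IsFiltered I] {κ : Type u} [Finite κ]
    (i : κ → I) : ∃ S : I, ∀ k, Nonempty (i k ⟶ S) := by
  classical
  have := Fintype.ofFinite κ
  obtain ⟨S, hS⟩ := IsFiltered.sup_objs_exists (Finset.univ.image i)
  exact ⟨S, fun k => hS (Finset.mem_image_of_mem _ (Finset.mem_univ k))⟩

variable (B : Set C) (Cov : ∀ (U : C) (ι : Type u), (ι → Over U) → Prop)

variable (J) in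
/-- A collection of finite coverings, stable enough to compute cohomology. -/
structure IsFinCollection : Prop extends CechAcyclic.IsCovCollection J B Cov where
  finite : ∀ (U : C) (ι : Type u) (Y : ι → Over U), Cov U ι Y → Finite ι

variable {B Cov} (hB : IsFinCollection J B Cov)
  {I : Type u} [SmallCategory I] [IsFiltered I] (D : I ⥤ Sheaf J AddCommGrpCat.{u})

/-- The colimit of the underlying presheaves. -/
noncomputable abbrev pcolim : Cᵒᵖ ⥤ AddCommGrpCat.{u} :=
  colimit (D ⋙ sheafToPresheaf J AddCommGrpCat.{u})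

/-- The structure maps of the colimit of presheaves. -/
noncomputable abbrev pι (i : I) : (D.obj i).obj ⟶ pcolim D :=
  colimit.ι (D ⋙ sheafToPresheaf J AddCommGrpCat.{u}) i

/-- The comparison with the colimit of sheaves. -/
noncomputable def can : pcolim D ⟶ (colimit D).obj :=
  colimit.desc (D ⋙ sheafToPresheaf J AddCommGrpCat.{u})
    ((sheafToPresheaf J AddCommGrpCat.{u}).mapCocone (colimit.cocone D))

omit [IsFiltered I] in
lemma ι_can_apply (i : I) {W : Cᵒᵖ} (y : (D.obj i).obj.obj W) :
    (can D).app W ((pι D i).app W y) = (colimit.ι D i).hom.app W y := by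
  have h : pι D i ≫ can D = (colimit.ι D i).hom := colimit.ι_desc _ _
  exact ConcreteCategory.congr_hom (congr_app h W) y

omit [IsFiltered I] in
lemma exists_pι (W : Cᵒᵖ) [IsFiltered I] (x : (pcolim D).obj W) :
    ∃ (i : I) (y : (D.obj i).obj.obj W), (pι D i).app W y = x :=
  Concrete.isColimit_exists_rep _ (isColimitOfPreserves
    ((evaluation Cᵒᵖ AddCommGrpCat.{u}).obj W) (colimit.isColimit _)) x

lemma pι_eq_zero {W : Cᵒᵖ} {i : I} (y : (D.obj i).obj.obj W) (h : (pι D i).app W y = 0) :
    ∃ (j : I) (a : i ⟶ j), (D.map a).hom.app W y = 0 := by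
  let c := ((evaluation Cᵒᵖ AddCommGrpCat.{u}).obj W).mapCocone
    (colimit.cocone (D ⋙ sheafToPresheaf J AddCommGrpCat.{u}))
  have h0 : c.ι.app i y = c.ι.app i (0 : (D.obj i).obj.obj W) :=
    h.trans (map_zero ((pι D i).app W).hom).symm
  obtain ⟨j, f, g, hfg⟩ := (Concrete.isColimit_rep_eq_iff_exists _ (D := c)
    (isColimitOfPreserves ((evaluation Cᵒᵖ AddCommGrpCat.{u}).obj W) (colimit.isColimit _)) y (0 : (D.obj i).obj.obj W)).1 h0
  exact ⟨j, f, hfg.trans (map_zero _)⟩

omit [IsFiltered I] in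
lemma exists_locallyBijective :
    ∃ e : (presheafToSheaf J AddCommGrpCat.{u}).obj (pcolim D) ≅ colimit D,
      toSheafify J (pcolim D) ≫ e.hom.hom = can D := by
  let hc := Sheaf.isColimitSheafifyCocone (F := D) _
    (colimit.isColimit (D ⋙ sheafToPresheaf J AddCommGrpCat.{u}))
  refine ⟨hc.coconePointUniqueUpToIso (colimit.isColimit D), colimit.hom_ext fun i => ?_⟩
  rw [can, colimit.ι_desc]
  refine ((Category.assoc _ _ _).symm.trans (congrArg (fun f => f ≫ _)
    (Sheaf.sheafifyCocone_ι_app_val _ i).symm)).trans ?_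
  exact congrArg (·.hom) (hc.comp_coconePointUniqueUpToIso_hom (colimit.isColimit D) i)

instance : Presheaf.IsLocallyInjective J (can D) := by
  obtain ⟨e, he⟩ := exists_locallyBijective D
  have : IsIso e.hom.hom := (sheafToPresheaf J AddCommGrpCat.{u}).map_isIso e.hom
  rw [← he]
  infer_instance

instance : Presheaf.IsLocallySurjective J (can D) := by
  obtain ⟨e, he⟩ := exists_locallyBijective D
  have : IsIso e.hom.hom := (sheafToPresheaf J AddCommGrpCat.{u}).map_isIso e.hom
  rw [← he]
  infer_instance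

omit [HasPullbacks C] in
/-- Sections of a sheaf are determined on a covering family. -/
lemma sec_ext (F : Sheaf J AddCommGrpCat.{u}) {U : C} {ι : Type u} (Y : ι → Over U)
    (hY : CechFam.sieve Y ∈ J U) {x y : F.obj.obj (op U)}
    (h : ∀ k, F.obj.map (Y k).hom.op x = F.obj.map (Y k).hom.op y) : x = y :=
  Presheaf.IsSheaf.isSeparated F.property U _ hY x y fun V f hf => by
    obtain ⟨k, g, rfl⟩ := (Sieve.mem_ofArrows_iff _ _ _).1 hf
    rw [← Surj.res_res g (Y k).hom, ← Surj.res_res g (Y k).hom, h]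

omit [HasPullbacks C] [IsFiltered I] in
lemma res_ι (i : I) {U V : C} (g : V ⟶ U) (y : (D.obj i).obj.obj (op U)) :
    (colimit D).obj.map g.op ((colimit.ι D i).hom.app (op U) y) =
      (colimit.ι D i).hom.app (op V) ((D.obj i).obj.map g.op y) :=
  (NatTrans.naturality_apply (colimit.ι D i).hom g.op y).symm

omit [HasPullbacks C] [IsFiltered I] in
lemma res_map {i j : I} (a : i ⟶ j) {U V : C} (g : V ⟶ U) (y : (D.obj i).obj.obj (op U)) :
    (D.obj j).obj.map g.op ((D.map a).hom.app (op U) y) =
      (D.map a).hom.app (op V) ((D.obj i).obj.map g.op y) :=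
  (NatTrans.naturality_apply (D.map a).hom g.op y).symm

omit [HasPullbacks C] [IsFiltered I] in
lemma map_map_apply {i j k : I} (a : i ⟶ j) (b : j ⟶ k) {W : Cᵒᵖ} (y : (D.obj i).obj.obj W) :
    (D.map b).hom.app W ((D.map a).hom.app W y) = (D.map (a ≫ b)).hom.app W y := by
  rw [D.map_comp]
  rfl

omit [HasPullbacks C] [IsFiltered I] in
lemma ι_map_apply {i j : I} (a : i ⟶ j) {W : Cᵒᵖ} (y : (D.obj i).obj.obj W) :
    (colimit.ι D j).hom.app W ((D.map a).hom.app W y) = (colimit.ι D i).hom.app W y := by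
  conv_rhs => rw [← colimit.w D a]
  rfl

include hB in
/-- A section over a member which dies in the colimit dies at a later stage. -/
lemma eventually_zero {U : C} (hU : U ∈ B) {i : I} (y : (D.obj i).obj.obj (op U))
    (hy : (colimit.ι D i).hom.app (op U) y = 0) :
    ∃ (j : I) (a : i ⟶ j), (D.map a).hom.app (op U) y = 0 := by
  obtain ⟨κ, Y, hY, hle⟩ := hB.refine' U hU _ (Presheaf.equalizerSieve_mem J (can D)
    ((pι D i).app (op U) y) 0 ((ι_can_apply D i y).trans (hy.trans (map_zero _).symm)))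
  have := hB.finite U κ Y hY
  have hk : ∀ k, ∃ (j : I) (a : i ⟶ j),
      (D.map a).hom.app (op (Y k).left) ((D.obj i).obj.map (Y k).hom.op y) = 0 := fun k => by
    refine pι_eq_zero D _ ?_
    rw [NatTrans.naturality_apply (pι D i) (Y k).hom.op y]
    exact (hle k).trans (map_zero _)
  choose j a ha using hk
  obtain ⟨S, c, b, hb⟩ := Groth.TFin.exists_common i j a
  refine ⟨S, c, sec_ext (D.obj S) Y (hB.mem U κ Y hY).1 fun k => ?_⟩
  rw [map_zero, res_map, ← hb k, ← map_map_apply, ha, map_zero]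

include hB in
/-- A section over a member of the colimit comes from a stage. -/
lemma exists_stage {U : C} (hU : U ∈ B) (s : (colimit D).obj.obj (op U)) :
    ∃ (i : I) (y : (D.obj i).obj.obj (op U)), (colimit.ι D i).hom.app (op U) y = s := by
  obtain ⟨κ, Y, hY, hle⟩ := hB.refine' U hU _ (Presheaf.imageSieve_mem J (can D) (U := op U) s)
  have := hB.finite U κ Y hY
  have hk : ∀ k, ∃ (i : I) (y : (D.obj i).obj.obj (op (Y k).left)),
      (colimit.ι D i).hom.app _ y = (colimit D).obj.map (Y k).hom.op s := fun k => by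
    obtain ⟨x, hx⟩ := hle k
    obtain ⟨i, y, rfl⟩ := exists_pι D _ x
    exact ⟨i, y, (ι_can_apply D i y).symm.trans hx⟩
  choose i y hy using hk
  obtain ⟨S, hS⟩ := exists_common_stage i
  let z : ∀ k, (D.obj S).obj.obj (op (Y k).left) := fun k => (D.map (hS k).some).hom.app _ (y k)
  have hz : ∀ k, (colimit.ι D S).hom.app _ (z k) = (colimit D).obj.map (Y k).hom.op s := fun k =>
    (ι_map_apply D _ _).trans (hy k)
  have hq : ∀ q : Fin 2 → κ, ∃ (j : I) (a : S ⟶ j), (D.map a).hom.app _
      ((D.obj S).obj.map (Pi.π (fun m => Y (q m)) 0).left.op (z (q 0)) -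
        (D.obj S).obj.map (Pi.π (fun m => Y (q m)) 1).left.op (z (q 1))) = 0 := fun q => by
    refine eventually_zero hB D ((hB.mem U κ Y hY).2 1 q) _ ?_
    rw [map_sub, ← res_ι, ← res_ι, hz, hz, Surj.res_res, Surj.res_res, sub_eq_zero]
    exact congrArg (fun f => (colimit D).obj.map f.op s)
      ((Over.w (Pi.π (fun m => Y (q m)) 0)).trans (Over.w (Pi.π (fun m => Y (q m)) 1)).symm)
  choose j a ha using hq
  obtain ⟨T, c, b, hb⟩ := Groth.TFin.exists_common S j a
  let w : ∀ k, (D.obj T).obj.obj (op (Y k).left) := fun k => (D.map c).hom.app _ (z k)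
  have hc : ∀ k l Z (gk : Z ⟶ (Y k).left) (gl : Z ⟶ (Y l).left), gk ≫ (Y k).hom = gl ≫ (Y l).hom →
      (D.obj T).obj.map gk.op (w k) = (D.obj T).obj.map gl.op (w l) := by
    intro k l Z gk gl h
    let t : ∀ m : Fin 2, Over.mk (gk ≫ (Y k).hom) ⟶ Y (![k, l] m) := fun m => match m with
      | 0 => Over.homMk gk rfl
      | 1 => Over.homMk gl h.symm
    let f : Over.mk (gk ≫ (Y k).hom) ⟶ ∏ᶜ fun m => Y (![k, l] m) := Pi.lift t
    have e : (D.obj T).obj.map (Pi.π (fun m => Y (![k, l] m)) 0).left.op (w k) =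
        (D.obj T).obj.map (Pi.π (fun m => Y (![k, l] m)) 1).left.op (w l) := by
      have h0 := ha ![k, l]
      rw [map_sub, sub_eq_zero] at h0
      have h1 := congrArg ((D.map (b ![k, l])).hom.app _) h0
      rw [map_map_apply, map_map_apply, hb] at h1
      refine (res_map D c _ _).trans (h1.trans (res_map D c _ _).symm)
    have h2 := congrArg ((D.obj T).obj.map f.left.op) e
    erw [Surj.res_res, Surj.res_res] at h2
    refine Eq.trans ?_ (h2.trans ?_)
    · exact Surj.res_congr (congrArg (·.left) (Pi.lift_π t 0)).symm _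
    · exact Surj.res_congr (congrArg (·.left) (Pi.lift_π t 1)) _
  have hT : Presieve.IsSheafFor ((D.obj T).obj ⋙ forget _)
      (Presieve.ofArrows (fun k => (Y k).left) fun k => (Y k).hom) := by
    rw [Presieve.isSheafFor_iff_generate]
    exact ((isSheaf_iff_isSheaf_of_type J _).1
      (Presheaf.isSheaf_comp_of_isSheaf J _ (forget AddCommGrpCat.{u}) (D.obj T).property)) _
      (hB.mem U κ Y hY).1
  obtain ⟨v, hv, -⟩ := (Presieve.isSheafFor_arrows_iff _ _).1 hT w hc
  refine ⟨T, v, sec_ext (colimit D) Y (hB.mem U κ Y hY).1 fun k => ?_⟩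
  rw [res_ι]
  exact (congrArg _ (hv k)).trans ((ι_map_apply D c _).trans (hz k))

include hB in
/-- Vanishing of Čech cohomology passes to filtered colimits. -/
lemma isZero_cechH_colimit (q : ℕ)
    (h : ∀ i (U : C) (ι : Type u) (Y : ι → Over U), Cov U ι Y →
      IsZero (CohCx.cechH (D.obj i).obj Y (q + 1)))
    {U : C} {ι : Type u} (Y : ι → Over U) (hY : Cov U ι Y) :
    IsZero (CohCx.cechH (colimit D).obj Y (q + 1)) := by
  have := hB.finite U ι Y hY
  refine (HomologicalComplex.exactAt_iff_isZero_homology _ _).1 ?_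
  rw [HomologicalComplex.exactAt_iff' _ q (q + 1) (q + 2) (by simp) (by simp),
    ShortComplex.ab_exact_iff]
  intro (x : (EtCech.cechComplex Y (colimit D).obj).X (q + 1))
    (hx : (EtCech.cechComplex Y (colimit D).obj).d (q + 1) (q + 2) x = 0)
  choose i y hy using fun a : Fin (q + 2) → ι =>
    exists_stage hB D ((hB.mem U ι Y hY).2 (q + 1) a) (Vanish.proj Y _ (q + 1) a x)
  obtain ⟨S, hS⟩ := exists_common_stage i
  obtain ⟨z, hz⟩ := Vanish.exists_cochain Y (D.obj S).obj (q + 1) fun a =>
    (D.map (hS a).some).hom.app _ (y a)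
  let φ := LongExact.cxMap Y (colimit.ι D S).hom
  have hzx : φ.f (q + 1) z = x := Vanish.cochain_ext Y _ _ fun a => by
    rw [LongExact.proj_cxMap, hz]
    exact (ι_map_apply D _ _).trans (hy a)
  have hd : ∀ a : Fin (q + 3) → ι, (colimit.ι D S).hom.app _
      (Vanish.proj Y _ (q + 2) a ((EtCech.cechComplex Y (D.obj S).obj).d (q + 1) (q + 2) z)) = 0 := by
    intro a
    rw [← LongExact.proj_cxMap Y (colimit.ι D S).hom,
      ← ConcreteCategory.comp_apply (EtCech.cechComplex Y (D.obj S).obj |>.d _ _), ← φ.comm,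
      ConcreteCategory.comp_apply, hzx, hx, map_zero]
  choose j b hb using fun a => eventually_zero hB D ((hB.mem U ι Y hY).2 (q + 2) a) _ (hd a)
  obtain ⟨T, c, e, he⟩ := Groth.TFin.exists_common S j b
  let ψ := LongExact.cxMap Y (D.map c).hom
  have hw : (EtCech.cechComplex Y (D.obj T).obj).d (q + 1) (q + 2) (ψ.f (q + 1) z) = 0 := by
    rw [← ConcreteCategory.comp_apply, ψ.comm, ConcreteCategory.comp_apply]
    refine Vanish.cochain_ext Y _ _ fun a => ?_
    rw [LongExact.proj_cxMap, map_zero, ← he a, ← map_map_apply]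
    exact (congrArg _ (hb a)).trans (map_zero _)
  obtain ⟨v, hv⟩ : ∃ v, (EtCech.cechComplex Y (D.obj T).obj).d q (q + 1) v = ψ.f (q + 1) z := by
    have hT := (HomologicalComplex.exactAt_iff_isZero_homology _ _).2 (h T U ι Y hY)
    rw [HomologicalComplex.exactAt_iff' _ q (q + 1) (q + 2) (by simp) (by simp),
      ShortComplex.ab_exact_iff] at hT
    exact hT _ hw
  let χ := LongExact.cxMap Y (colimit.ι D T).hom
  refine ⟨χ.f q v, ?_⟩
  change (EtCech.cechComplex Y (colimit D).obj).d q (q + 1) (χ.f q v) = x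
  rw [← ConcreteCategory.comp_apply, χ.comm, ConcreteCategory.comp_apply, hv, ← hzx]
  refine Vanish.cochain_ext Y _ _ fun a => ?_
  rw [LongExact.proj_cxMap, LongExact.proj_cxMap, LongExact.proj_cxMap, ι_map_apply]

include hB in
theorem colimAcyclic {U : C} (hU : U ∈ B) :
    ExtColim.ColimAcyclic I (CohCx.freeSheaf J U) := by
  refine ⟨fun E => ⟨fun x => ?_, fun i y hy => ?_⟩, fun E hE n => ?_⟩
  · obtain ⟨i, y, hy⟩ := exists_stage hB E hU (Basic.ext0Equiv _ U x)
    refine ⟨i, (Basic.ext0Equiv _ U).symm y, (Basic.ext0Equiv _ U).injective ?_⟩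
    rw [ExtColim.push, Basic.ext0Equiv_comp_mk₀, AddEquiv.apply_symm_apply, hy]
  · have h0 : (colimit.ι E i).hom.app (op U) (Basic.ext0Equiv _ U y) = 0 := by
      rw [← Basic.ext0Equiv_comp_mk₀]
      exact (congrArg _ hy).trans (map_zero _)
    obtain ⟨k, a, ha⟩ := eventually_zero hB E hU _ h0
    refine ⟨k, a, (Basic.ext0Equiv _ U).injective ?_⟩
    rw [ExtColim.push, Basic.ext0Equiv_comp_mk₀, ha, map_zero]
  · refine CechAcyclic.subsingleton_hu_of_collection B Cov hB.toIsCovCollection n _
      (fun V ι Y hY q => isZero_cechH_colimit hB E q (fun i W κ Z _ => ?_) Y hY) U hU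
    have := hE i
    have : Injective (E.obj i).obj :=
      Injective.injective_of_adjoint (sheafificationAdjunction J AddCommGrpCat.{u}) (E.obj i)
    exact Vanish.isZero_cechH Z (E.obj i).obj q

include hB in
theorem preservesColimit {U : C} (hU : U ∈ B) (p : ℕ) :
    PreservesColimit D ((Sheaf.cohomologyPresheafFunctor J p).flip.obj (op U)) := by
  have := (colimAcyclic hB (I := I) hU).preservesColimitsOfShape p
  change PreservesColimit D ((extFunctor.{u} p).obj (op (CohCx.freeSheaf J U)))
  infer_instance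

end Groth.Agent.Lib.CohomColim.Collection
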