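import Groth.Agent.Lib.DerCat.Compact
import Groth.Agent.Lib.DerCat.RFAcyclic
import Groth.Agent.Lib.DerCat.HProd
import Groth.Agent.Lib.DerCat.KInjExists
import Groth.Agent.Lib.DerivedOX.RightDerived
import Mathlib.Algebra.Homology.DerivedCategory.Ext.EnoughInjectives
import Mathlib.Algebra.Homology.DerivedCategory.Ext.ExactSequences

/-!
# Compactness of an object whose `Ext` functors commute with direct sums
-/

set_option linter.style.haveILetI false

universe v u

open CategoryTheory CategoryTheory.Limits CategoryTheory.Abelian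
open Groth.Agent.Lib.DerCat

namespace Groth.Agent.Lib.CohomColim.FreeCompact

variable {A : Type u} [Category.{v} A] [Abelian A] [HasExt.{v} A] {P : A}

instance (n : ℕ) (X : Aᵒᵖ) : ((extFunctor n).obj X).Additive :=
  inferInstanceAs (extFunctorObj X.unop n).Additive

section Support

variable {ι : Type v} [HasColimitsOfShape (Discrete ι) A]

/-- Elements of the value of a coproduct preserving functor have finite support. -/
lemma exists_support (G : A ⥤ AddCommGrpCat.{v}) [G.Additive]
    [PreservesColimitsOfShape (Discrete ι) G] (X : ι → A) (z : G.obj (∐ X)) :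
    ∃ s : Finset ι, G.map (Compact.cut X s) z = z := by
  classical
  let N : AddSubgroup (G.obj (∐ X)) :=
    { carrier := {z | ∃ s : Finset ι, G.map (Compact.cut X s) z = z}
      zero_mem' := ⟨∅, map_zero _⟩
      add_mem' := by
        rintro a b ⟨s, hs⟩ ⟨t, ht⟩
        refine ⟨s ∪ t, ?_⟩
        rw [map_add]
        congr 1
        · rw [← hs, ← ConcreteCategory.comp_apply, ← G.map_comp,
            Compact.cut_comp X Finset.subset_union_left]
        · rw [← ht, ← ConcreteCategory.comp_apply, ← G.map_comp,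
            Compact.cut_comp X Finset.subset_union_right]
      neg_mem' := by
        rintro a ⟨s, hs⟩
        exact ⟨s, (map_neg _ _).trans (congrArg _ hs)⟩ }
  let hc := isColimitCofanMkObjOfIsColimit G X (Sigma.ι X) (coproductIsCoproduct X)
  have h : AddCommGrpCat.ofHom (QuotientAddGroup.mk' N) = 0 :=
    Cofan.IsColimit.hom_ext hc _ _ fun i => by
      ext m
      refine (QuotientAddGroup.eq_zero_iff _).2 ⟨{i}, ?_⟩
      change G.map (Compact.cut X {i}) (G.map (Sigma.ι X i) m) = G.map (Sigma.ι X i) m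
      rw [← ConcreteCategory.comp_apply, ← G.map_comp, Compact.ι_cut,
        if_pos (Finset.mem_singleton_self i)]
  exact (QuotientAddGroup.eq_zero_iff z).1
    (congrArg (fun f : G.obj (∐ X) ⟶ AddCommGrpCat.of (G.obj (∐ X) ⧸ N) => f z) h)

lemma exists_hom_support [PreservesColimitsOfShape (Discrete ι) ((extFunctor 0).obj (Opposite.op P))]
    (X : ι → A) (x : P ⟶ ∐ X) : ∃ s : Finset ι, x ≫ Compact.cut X s = x := by
  obtain ⟨s, hs⟩ := exists_support ((extFunctor 0).obj (Opposite.op P)) X (Ext.mk₀ x)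
  exact ⟨s, (Ext.mk₀_bijective _ _).1 ((Ext.mk₀_comp_mk₀ _ _).symm.trans hs)⟩

lemma ext_coproduct_eq_zero (n : ℕ)
    [PreservesColimitsOfShape (Discrete ι) ((extFunctor n).obj (Opposite.op P))]
    (X : ι → A) (hX : ∀ i, ∀ x : Ext P (X i) n, x = 0) (z : Ext P (∐ X) n) : z = 0 := by
  classical
  obtain ⟨s, hs⟩ := exists_support ((extFunctor n).obj (Opposite.op P)) X z
  refine hs.symm.trans ?_
  change z.comp (Ext.mk₀ (∑ i ∈ s, Compact.proj X i ≫ Sigma.ι X i)) (add_zero n) = 0
  rw [← Finset.sum_coe_sort, Ext.mk₀_sum, Ext.comp_sum]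
  refine Finset.sum_eq_zero fun ⟨i, _⟩ _ => ?_
  rw [← Ext.mk₀_comp_mk₀, ← Ext.comp_assoc_of_second_deg_zero,
    hX i (z.comp _ _), Ext.zero_comp]

end Support

section Cycles

variable {N : CochainComplex A ℤ} (hN : N.Acyclic)
  (hX : ∀ (j : ℤ) (q : ℕ) (x : Ext P (N.X j) (q + 1)), x = 0)

include hN hX in
lemma ext_cycles_step (i : ℤ) (q : ℕ) (h : ∀ x : Ext P (N.cycles i) (q + 1 + 1), x = 0)
    (x : Ext P (N.cycles (i + 1)) (q + 1)) : x = 0 := by
  obtain ⟨y, hy⟩ := Ext.covariant_sequence_exact₃ P (RFAcyclic.cycSeq_shortExact N hN i) x rfl (h _)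
  rw [← hy]
  exact (congrArg (fun t => Ext.comp t _ _) (hX i q y)).trans (Ext.zero_comp _ _ _ _ _)

include hN hX in
/-- Cycles of a bounded below acyclic complex of acyclic objects are acyclic. -/
lemma ext_cycles_eq_zero_of_ge (a : ℤ) [N.IsStrictlyGE a] (j : ℤ) (q : ℕ)
    (x : Ext P (N.cycles j) (q + 1)) : x = 0 := by
  have hz : ∀ j, j < a → ∀ (q : ℕ) (x : Ext P (N.cycles j) (q + 1)), x = 0 := fun j hj q x => by
    have h : IsZero (N.cycles j) :=
      IsZero.of_mono (N.iCycles _) (CochainComplex.isZero_of_isStrictlyGE N a _ hj)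
    rw [← Ext.comp_mk₀_id x, h.eq_of_src (𝟙 (N.cycles j)) 0, Ext.mk₀_zero, Ext.comp_zero]
  have hm : ∀ (m : ℕ) (q : ℕ) (x : Ext P (N.cycles (a - 1 + m)) (q + 1)), x = 0 := by
    intro m
    induction m with
    | zero => exact hz _ (by lia)
    | succ m ih =>
      rw [show a - 1 + ((m + 1 : ℕ) : ℤ) = a - 1 + m + 1 by lia]
      exact fun q x => ext_cycles_step hN hX _ q (ih (q + 1)) x
  by_cases hj : j < a
  · exact hz j hj q x
  · revert x
    rw [show j = a - 1 + ((j - a + 1).toNat : ℤ) by lia]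
    exact hm _ q

include hN hX in
/-- Cycles of an acyclic complex of acyclic objects are acyclic, in finite dimension. -/
lemma ext_cycles_eq_zero_of_dim (d : ℕ) (hd : ∀ (Y : A) (q : ℕ) (x : Ext P Y q), d < q → x = 0)
    (j : ℤ) (q : ℕ) (x : Ext P (N.cycles j) (q + 1)) : x = 0 := by
  have h : ∀ (k : ℕ) (q : ℕ), d ≤ q + k → ∀ (j : ℤ) (x : Ext P (N.cycles j) (q + 1)), x = 0 := by
    intro k
    induction k with
    | zero => exact fun q hq j x => hd _ _ x (by lia)
    | succ k ih =>
      intro q hq j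
      rw [show j = j - 1 + 1 by lia]
      exact ext_cycles_step hN hX _ q (ih (q + 1) (by lia) (j - 1))
  exact h d q (by lia) j x

end Cycles

section Lift

variable [HasDerivedCategory.{v} A]

open CochainComplex

/-- Morphisms from `P` to a complex lift to chain maps, if the cone of a K-injective resolution
stays exact under `Hom(P, -)`. -/
lemma exists_chainMap {N J : CochainComplex A ℤ} (q : N ⟶ J) [QuasiIso q] [J.IsKInjective]
    (hz : ∀ (j : ℤ) (x : Ext P ((mappingCone q).cycles j) 1), x = 0)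
    (f : DerivedCategory.Q.obj ((HomologicalComplex.single A (.up ℤ) 0).obj P) ⟶
      DerivedCategory.Q.obj N) :
    ∃ ψ : (HomologicalComplex.single A (.up ℤ) 0).obj P ⟶ N, DerivedCategory.Q.map ψ = f := by
  let S := (HomologicalComplex.single A (.up ℤ) 0).obj P
  let e := DerivedCategory.quotientCompQhIso A
  let quot := HomotopyCategory.quotient A (ComplexShape.up ℤ)
  obtain ⟨φ', hφ'⟩ := (IsKInjective.Qh_map_bijective (quot.obj S) J).2
    (e.hom.app S ≫ f ≫ DerivedCategory.Q.map q ≫ e.inv.app J)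
  obtain ⟨φ, rfl⟩ := quot.map_surjective φ'
  let t : P ⟶ S.X 0 := (HomologicalComplex.singleObjXSelf (ComplexShape.up ℤ) 0 P).inv
  have hC : (mappingCone q).Acyclic :=
    (RFAcyclic.quasiIso_iff_acyclic_mappingCone q).1 inferInstance
  let hS := RFAcyclic.cycSeq_shortExact (mappingCone q) hC (-1)
  have hφd : (t ≫ φ.f 0) ≫ J.d 0 1 = 0 := by
    rw [Category.assoc, φ.comm, HomologicalComplex.single_obj_d, zero_comp, comp_zero]
  let x : P ⟶ (mappingCone q).X (-1 + 1) := (t ≫ φ.f 0) ≫ (mappingCone.inr q).f 0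
  have hx : x ≫ (mappingCone q).d (-1 + 1) 1 = 0 := by
    change ((t ≫ φ.f 0) ≫ (mappingCone.inr q).f 0) ≫ (mappingCone q).d 0 1 = 0
    rw [Category.assoc, HomologicalComplex.Hom.comm, ← Category.assoc, hφd, zero_comp]
  let z : P ⟶ (mappingCone q).cycles (-1 + 1) :=
    (mappingCone q).liftCycles x 1 (by simp) hx
  obtain ⟨y, hy⟩ := Ext.covariant_sequence_exact₃ P hS (Ext.mk₀ z) rfl (hz _ _)
  obtain ⟨w, rfl⟩ := (Ext.mk₀_bijective _ _).2 y
  rw [Ext.mk₀_comp_mk₀] at hy
  have hw : w ≫ (mappingCone q).d (-1) 0 = (t ≫ φ.f 0) ≫ (mappingCone.inr q).f 0 := by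
    have h := congrArg (· ≫ (mappingCone q).iCycles (-1 + 1)) ((Ext.mk₀_bijective _ _).1 hy)
    simp only [z, Category.assoc, HomologicalComplex.liftCycles_i] at h
    exact (congrArg (w ≫ ·) ((mappingCone q).toCycles_i (-1) (-1 + 1)).symm).trans h
  let ψ₀ : P ⟶ N.X 0 := w ≫ (mappingCone.fst q).1.v (-1) 0 (by simp)
  let η : P ⟶ J.X (-1) := w ≫ (mappingCone.snd q).v (-1) (-1) (by simp)
  have h1 : ψ₀ ≫ N.d 0 1 = 0 := by
    have h := congrArg (· ≫ (mappingCone.fst q).1.v 0 1 (by simp)) hw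
    simp only [Category.assoc, mappingCone.inr_f_fst_v, comp_zero] at h
    rw [mappingCone.d_fst_v q (-1) 0 1 (by simp) (by simp)] at h
    simpa [ψ₀] using h
  have h2 : ψ₀ ≫ q.f 0 + η ≫ J.d (-1) 0 = t ≫ φ.f 0 := by
    have h := congrArg (· ≫ (mappingCone.snd q).v 0 0 (by simp)) hw
    simp only [Category.assoc, mappingCone.inr_f_snd_v, Category.comp_id] at h
    rw [mappingCone.d_snd_v q (-1) 0 (by simp), Preadditive.comp_add] at h
    simpa [ψ₀, η] using h
  have ht : (HomologicalComplex.singleObjXSelf (ComplexShape.up ℤ) 0 P).hom ≫ t = 𝟙 _ :=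
    Iso.hom_inv_id _
  let ψ : S ⟶ N := HomologicalComplex.mkHomFromSingle ψ₀ fun i hi => by
    obtain rfl : i = 1 := by simpa using hi.symm
    exact h1
  refine ⟨ψ, ?_⟩
  let h : ∀ i j, (ComplexShape.up ℤ).Rel j i → (S.X i ⟶ J.X j) := fun i j _ =>
    if hij : i = 0 ∧ j = -1 then
      (HomologicalComplex.singleObjXIsoOfEq (ComplexShape.up ℤ) 0 P i hij.1).hom ≫ η ≫
        eqToHom (congrArg J.X hij.2.symm)
    else 0
  have hnull : φ - ψ ≫ q = Homotopy.nullHomotopicMap' h := by
    apply HomologicalComplex.from_single_hom_ext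
    rw [HomologicalComplex.sub_f_apply, HomologicalComplex.comp_f,
      Homotopy.nullHomotopicMap'_f (k₂ := (-1 : ℤ)) (k₁ := 0) (k₀ := 1) (by simp) (by simp),
      HomologicalComplex.single_obj_d, zero_comp, zero_add, ← cancel_epi t]
    simp only [h, ψ, dif_pos (show (0 : ℤ) = 0 ∧ (-1 : ℤ) = -1 from ⟨rfl, rfl⟩),
      HomologicalComplex.mkHomFromSingle_f, eqToHom_refl, Category.comp_id, Preadditive.comp_sub]
    rw [← h2]
    simp [t, HomologicalComplex.singleObjXSelf]
  have hq : quot.map φ = quot.map (ψ ≫ q) :=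
    HomotopyCategory.eq_of_homotopy _ _ (Homotopy.equivSubZero.symm
      ((Homotopy.ofEq hnull).trans (Homotopy.nullHomotopy' h)))
  rw [← cancel_mono (DerivedCategory.Q.map q), ← Functor.map_comp, ← cancel_mono (e.inv.app J),
    ← cancel_epi (e.hom.app S), Category.assoc, ← hφ', hq]
  erw [e.inv.naturality (ψ ≫ q)]
  exact Iso.hom_inv_id_app_assoc e S _

/-- A morphism from `P` into a direct sum of complexes, all whose lifts exist, is a finite sum. -/
lemma mem_range [IsGrothendieckAbelian.{v} A] {ι : Type v}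
    [PreservesColimitsOfShape (Discrete ι) ((extFunctor 0).obj (Opposite.op P))]
    {M : ι → DerivedCategory A} [HasCoproduct M] (K : ι → CochainComplex A ℤ)
    (e : ∀ i, DerivedCategory.Q.obj (K i) ≅ M i)
    (hlift : ∀ g : DerivedCategory.Q.obj ((HomologicalComplex.single A (.up ℤ) 0).obj P) ⟶
      DerivedCategory.Q.obj (∐ K), ∃ ψ, DerivedCategory.Q.map ψ = g)
    (f : DerivedCategory.Q.obj ((HomologicalComplex.single A (.up ℤ) 0).obj P) ⟶ ∐ M) :
    f ∈ (CohDer.homSumToHomCoprod _ M).range := by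
  classical
  haveI := Groth.Agent.Lib.DerivedOX.RightDerived.isLeftAdjoint_Qh (A := A)
    KInjExists.hasKInjRes
  haveI : PreservesColimit (Discrete.functor K) (DerivedCategory.Q (C := A)) := by
    haveI : PreservesColimit (Discrete.functor K)
        (HomotopyCategory.quotient A (ComplexShape.up ℤ)) :=
      preservesColimit_of_preserves_colimit_cocone (coproductIsCoproduct K)
        ((isColimitMapCoconeCofanMkEquiv _ _ _).symm (HProd.isColimitCofan K))
    haveI : PreservesColimit (Discrete.functor K ⋙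
        HomotopyCategory.quotient A (ComplexShape.up ℤ)) (DerivedCategory.Qh (C := A)) :=
      haveI := (Adjunction.ofIsLeftAdjoint (DerivedCategory.Qh (C := A))).leftAdjoint_preservesColimits
      inferInstance
    exact preservesColimit_of_natIso _ (DerivedCategory.quotientCompQhIso A)
  have hc := isColimitCofanMkObjOfIsColimit DerivedCategory.Q K (Sigma.ι K) (coproductIsCoproduct K)
  let a : (∐ M) ⟶ DerivedCategory.Q.obj (∐ K) :=
    Sigma.desc fun i => (e i).inv ≫ DerivedCategory.Q.map (Sigma.ι K i)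
  let b : DerivedCategory.Q.obj (∐ K) ⟶ ∐ M :=
    Cofan.IsColimit.desc hc fun i => (e i).hom ≫ Sigma.ι M i
  have hb : ∀ i, DerivedCategory.Q.map (Sigma.ι K i) ≫ b = (e i).hom ≫ Sigma.ι M i :=
    fun i => Cofan.IsColimit.fac hc _ i
  have hab : a ≫ b = 𝟙 _ := Sigma.hom_ext _ _ fun i => by simp [a, hb]
  obtain ⟨ψ, hψ⟩ := hlift (f ≫ a)
  let X : ι → A := fun i => (K i).X 0
  let u : (∐ K).X 0 ⟶ ∐ X := HProd.descX K (Sigma.ι X)
  let w : (∐ X) ⟶ (∐ K).X 0 := Sigma.desc fun i => (Sigma.ι K i).f 0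
  let t := (HomologicalComplex.singleObjXSelf (ComplexShape.up ℤ) 0 P).inv
  obtain ⟨s, hs⟩ := exists_hom_support X (t ≫ ψ.f 0 ≫ u)
  have huw : u ≫ w = 𝟙 _ := HProd.hom_ext_f K fun i => by
    rw [← Category.assoc, HProd.ι_descX, Sigma.ι_desc, Category.comp_id]
  have hwc : w ≫ (Compact.cut K s).f 0 = Compact.cut X s ≫ w := Sigma.hom_ext _ _ fun i => by
    rw [← Category.assoc, Sigma.ι_desc, ← HomologicalComplex.comp_f, Compact.ι_cut,
      ← Category.assoc, Compact.ι_cut]
    split_ifs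
    · simp [w]
    · simp
  have hcut : ψ ≫ Compact.cut K s = ψ := by
    apply HomologicalComplex.from_single_hom_ext
    rw [HomologicalComplex.comp_f, ← cancel_epi t]
    calc t ≫ ψ.f 0 ≫ (Compact.cut K s).f 0
        = (t ≫ ψ.f 0 ≫ u) ≫ w ≫ (Compact.cut K s).f 0 := by
          simp only [Category.assoc, reassoc_of% huw]
      _ = (t ≫ ψ.f 0 ≫ u) ≫ w := by rw [hwc, ← Category.assoc, hs]
      _ = t ≫ ψ.f 0 := by simp only [Category.assoc, huw, Category.comp_id]
  have hf : f = DerivedCategory.Q.map ψ ≫ b := by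
    rw [hψ, Category.assoc, hab, Category.comp_id]
  rw [hf, ← hcut, Compact.cut, Preadditive.comp_sum, Functor.map_sum, Preadditive.sum_comp]
  refine AddSubgroup.sum_mem _ fun i _ => ?_
  rw [Functor.map_comp, Functor.map_comp, Category.assoc, Category.assoc, hb, ← Category.assoc,
    ← Category.assoc]
  exact Compact.ι_comp_mem_range M i _

variable [IsGrothendieckAbelian.{v} A]
  (h : ∀ (p : ℕ) (ι : Type v),
    PreservesColimitsOfShape (Discrete ι) ((extFunctor p).obj (Opposite.op P)))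

include h in
lemma ext_terms_eq_zero {ι : Type v} (K : ι → CochainComplex A ℤ) (hK : ∀ i j, Injective ((K i).X j))
    (J : CochainComplex A ℤ) (hJ : ∀ j, Injective (J.X j)) (q : (∐ K) ⟶ J) (j : ℤ) (p : ℕ)
    (x : Ext P ((mappingCone q).X j) (p + 1)) : x = 0 := by
  haveI := h (p + 1) ι
  have hN : ∀ y : Ext P ((∐ K).X (j + 1)) (p + 1), y = 0 := fun y => by
    have hu : HProd.descX K (Sigma.ι fun i => (K i).X (j + 1)) ≫
        Sigma.desc (fun i => (Sigma.ι K i).f (j + 1)) = 𝟙 _ := HProd.hom_ext_f K fun i => by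
      rw [← Category.assoc, HProd.ι_descX, Sigma.ι_desc, Category.comp_id]
    rw [← Ext.comp_mk₀_id y, ← hu, ← Ext.mk₀_comp_mk₀, ← Ext.comp_assoc_of_second_deg_zero,
      ext_coproduct_eq_zero (p + 1) _ (fun i z => haveI := hK i (j + 1)
        Ext.eq_zero_of_injective z) (y.comp _ (add_zero _)), Ext.zero_comp]
  have hid := mappingCone.id_X q j (j + 1) rfl
  haveI := hJ j
  rw [← Ext.comp_mk₀_id x, ← hid, Ext.mk₀_add, Ext.comp_add, ← Ext.mk₀_comp_mk₀, ← Ext.mk₀_comp_mk₀,
    ← Ext.comp_assoc_of_second_deg_zero, ← Ext.comp_assoc_of_second_deg_zero, hN (x.comp _ _),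
    Ext.eq_zero_of_injective (x.comp (Ext.mk₀ ((mappingCone.snd q).v j j (add_zero j))) _),
    Ext.zero_comp, Ext.zero_comp, add_zero]

include h in
/-- Maps into uniformly bounded below direct sums are finite sums. -/
theorem bijective_of_isGE {ι : Type v} (M : ι → DerivedCategory A) [HasCoproduct M] (a : ℤ)
    (hM : ∀ i, (M i).IsGE a) :
    Function.Bijective (CohDer.homSumToHomCoprod
      ((DerivedCategory.singleFunctor A 0).obj P) M) := by
  have hL : ∀ i, ∃ (L : CochainComplex A ℤ) (_ : DerivedCategory.Q.obj L ≅ M i),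
      L.IsStrictlyGE a ∧ ∀ j, Injective (L.X j) := fun i => by
    haveI := hM i
    obtain ⟨K, hK, ⟨e⟩⟩ := DerivedCategory.exists_iso_Q_obj_of_isGE (M i) a
    obtain ⟨L, q, hq, hi, hL⟩ := CochainComplex.Plus.modelCategoryQuillen.exists_quasiIso_injective K a
    exact ⟨L, (asIso (DerivedCategory.Q.map q)).symm ≪≫ e.symm, hL, hi⟩
  choose L e hge hinj using hL
  haveI : (∐ L).IsStrictlyGE a := by
    rw [CochainComplex.isStrictlyGE_iff]
    intro j hj
    haveI := hge
    exact IsZero.iff_id_eq_zero _ |>.2 (HProd.hom_ext_f L fun i =>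
      (CochainComplex.isZero_of_isStrictlyGE (L i) a j hj).eq_of_src _ _)
  obtain ⟨J, q, hq, hJ, hJge⟩ :=
    CochainComplex.Plus.modelCategoryQuillen.exists_quasiIso_injective (∐ L) a
  haveI : J.IsKInjective := CochainComplex.isKInjective_of_injective J a
  haveI := CochainComplex.isStrictlyGE_mappingCone q a a (a - 1)
  haveI := h 0 ι
  refine ⟨Compact.homSum_injective M, fun f => mem_range L e (exists_chainMap q fun j x => ?_) f⟩
  exact ext_cycles_eq_zero_of_ge ((RFAcyclic.quasiIso_iff_acyclic_mappingCone q).1 inferInstance)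
    (ext_terms_eq_zero h L hinj J hJ q) (a - 1) j 0 x

include h in
/-- Compactness, in finite dimension. -/
theorem isCompactObject [HasCoproducts.{v} (DerivedCategory A)] (d : ℕ)
    (hd : ∀ (Y : A) (q : ℕ) (x : Ext P Y q), d < q → x = 0) :
    CohDer.IsCompactObject ((DerivedCategory.singleFunctor A 0).obj P) := by
  refine (Compact.isCompactObject_iff _).2 fun ι M f => ?_
  have hL : ∀ i, ∃ (L : CochainComplex A ℤ) (_ : DerivedCategory.Q.obj L ≅ M i),
      ∀ j, Injective (L.X j) := fun i => by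
    obtain ⟨L, q, -, hq, -, hL⟩ :=
      KInjExists.exists_kInjective_resolution (DerivedCategory.Q.objPreimage (M i))
    exact ⟨L, (asIso (DerivedCategory.Q.map q)).symm ≪≫ DerivedCategory.Q.objObjPreimageIso (M i), hL⟩
  choose L e hinj using hL
  obtain ⟨J, q, hJK, hq, -, hJ⟩ := KInjExists.exists_kInjective_resolution (∐ L)
  haveI := h 0 ι
  refine mem_range L e (exists_chainMap q fun j x => ?_) f
  exact ext_cycles_eq_zero_of_dim ((RFAcyclic.quasiIso_iff_acyclic_mappingCone q).1 inferInstance)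
    (ext_terms_eq_zero h L hinj J hJ q) d hd j 0 x

end Lift

end Groth.Agent.Lib.CohomColim.FreeCompact
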