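import Groth.Agent.Lib.ToposFin.CohomTop
import Groth.Prelude.Def_CohCx

/-!
# Cohomology commutes with filtered colimits, given a class of quasi-compact objects
-/

universe u

open CategoryTheory CategoryTheory.Limits Opposite CategoryTheory.Abelian
open ToposFin Groth.TFin
open Groth.CanonSheaf (pt hat pt_comp pt_map pt_hat hat_comp sheaf_ext LS_of_epi)
open Groth.Agent.Lib.SiteCoh
open Groth.Agent.Lib.SiteCoh.HomAcyclic Groth.Agent.Lib.SiteCoh.NerveCx
  Groth.Agent.Lib.SiteCoh.FreeSheaf Groth.Agent.Lib.SiteCoh.TotAcyclic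
open Groth.Agent.Lib.ToposFin

namespace Groth.Agent.Lib.CohomColim.QcClass

variable {C : Type u} [SmallCategory C] {J : GrothendieckTopology C}

/-- A jointly surjective family is epimorphic. -/
lemma ef_of_jointlySurjective {K : Sh J} {ι : Type u} {L : ι → Sh J} (f : ∀ i, L i ⟶ K)
    (hf : CohCx.JointlySurjective f) : EF f := by
  intro Z a b e
  refine Sheaf.hom_ext (NatTrans.ext (funext fun W => ConcreteCategory.hom_ext _ _ fun x => ?_))
  obtain ⟨U⟩ := W
  obtain ⟨S, hS, h⟩ := hf U x
  refine sheaf_ext Z hS fun V v hv => ?_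
  obtain ⟨i, y, hy⟩ := h V v hv
  rw [← NatTrans.naturality_apply a.hom, ← NatTrans.naturality_apply b.hom, ← hy]
  exact congrArg (fun φ : L i ⟶ Z => φ.hom.app (op V) y) (e i)

/-- An epimorphic family is jointly surjective. -/
lemma jointlySurjective_of_ef {K : Sh J} {ι : Type u} {L : ι → Sh J} {f : ∀ i, L i ⟶ K}
    (hf : EF f) : CohCx.JointlySurjective f := by
  intro U s
  refine ⟨_, LS_of_epi (Sieve.ofArrows L f) (fun Z a b e =>
    hf Z a b fun i => e _ _ (Sieve.ofArrows_mk _ _ i)) U s, fun V v hv => ?_⟩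
  obtain ⟨i, a, ha⟩ := (Sieve.mem_ofArrows_iff _ _ _).1 hv
  refine ⟨i, pt V (L i) a, ?_⟩
  rw [← pt_comp, ← ha, pt_hat]

lemma isQC_of_isQcObject {K : Sh J} (h : CohCx.IsQcObject K) : IsQC K := by
  rw [qc_iff]
  intro ι F π hπ
  obtain ⟨s, hs⟩ := h ι F π (jointlySurjective_of_ef hπ)
  exact ⟨s, ef_of_jointlySurjective _ hs⟩

variable (S : Set (Sh J))

/-- A class of quasi-compact objects, closed enough to compute cohomology. -/
structure IsQcClass : Prop where
  refine' : ∀ (F : Sh J) (K : Sh J) (g : F ⟶ K), K ∈ S → Epi g →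
      ∃ (K' : Sh J) (k : K' ⟶ F), K' ∈ S ∧ Epi (k ≫ g)
  prod : ∀ K ∈ S, ∀ K' ∈ S, ∃ (K'' : Sh J) (g : K'' ⟶ K ⨯ K'), K'' ∈ S ∧ Epi g
  equal : ∀ K ∈ S, ∀ K' ∈ S, ∀ (a b : K ⟶ K'),
      ∃ (K'' : Sh J) (g : K'' ⟶ equalizer a b), K'' ∈ S ∧ Epi g
  qc : ∀ K ∈ S, IsQC K

/-- The quotients of members. -/
def IsT (L : Sh J) : Prop := ∃ (K : Sh J) (g : K ⟶ L), K ∈ S ∧ Epi g

/-- The quotients of members along which members have fibre products of that kind. -/
def IsQ (L : Sh J) : Prop :=
  IsT S L ∧ ∀ (K K' : Sh J), K ∈ S → K' ∈ S → ∀ (a : K ⟶ L) (b : K' ⟶ L), IsT S (pullback a b)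

variable {S}

lemma isT_of_mem {K : Sh J} (hK : K ∈ S) : IsT S K := ⟨K, 𝟙 K, hK, inferInstance⟩

lemma isT_of_epi {L L' : Sh J} (hL : IsT S L) (f : L ⟶ L') [Epi f] : IsT S L' := by
  obtain ⟨K, g, hK, hg⟩ := hL
  exact ⟨K, g ≫ f, hK, inferInstance⟩

lemma isT_of_iso {L L' : Sh J} (hL : IsT S L) (e : L ≅ L') : IsT S L' := isT_of_epi hL e.hom

lemma qc_of_isT (hS : IsQcClass S) {L : Sh J} (hL : IsT S L) : IsQC L := by
  obtain ⟨K, g, hK, hg⟩ := hL
  exact qc_of_epi g (hS.qc K hK)

lemma epi_pullback_fst {X Y Z : Sh J} (f : X ⟶ Z) (g : Y ⟶ Z) [Epi g] : Epi (pullback.fst f g) := by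
  have h : EF fun _ : PUnit.{u + 1} => g := fun W a b e => (cancel_epi g).1 (e ⟨⟩)
  exact ⟨fun {W} a b e => EF.bc h f (fun _ => (IsPullback.of_hasPullback f g).flip) W a b fun _ => e⟩

lemma epi_pullback_snd {X Y Z : Sh J} (f : X ⟶ Z) (g : Y ⟶ Z) [Epi f] : Epi (pullback.snd f g) := by
  have h : EF fun _ : PUnit.{u + 1} => f := fun W a b e => (cancel_epi f).1 (e ⟨⟩)
  exact ⟨fun {W} a b e => EF.bc h g (fun _ => IsPullback.of_hasPullback f g) W a b fun _ => e⟩

/-- Fibre products of quotients of members over a `Q`-object. -/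
lemma isT_pullback {A B L : Sh J} (hL : IsQ S L) (hA : IsT S A) (hB : IsT S B) (a : A ⟶ L)
    (b : B ⟶ L) : IsT S (pullback a b) := by
  obtain ⟨K, g, hK, hg⟩ := hA
  obtain ⟨K', g', hK', hg'⟩ := hB
  have := hg
  have := hg'
  have h := hL.2 K K' hK hK' (g ≫ a) (g' ≫ b)
  let m : pullback (g ≫ a) (g' ≫ b) ⟶ pullback a b :=
    pullback.map _ _ _ _ g g' (𝟙 L) (by simp) (by simp)
  have : Epi m := by
    have h1 : EF fun _ : PUnit.{u + 1} => g := fun W p q e => (cancel_epi g).1 (e ⟨⟩)
    have h2 : EF fun _ : PUnit.{u + 1} => g' := fun W p q e => (cancel_epi g').1 (e ⟨⟩)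
    refine ⟨fun {W} p q e => ?_⟩
    have e1 : Epi (pullback.snd g (pullback.fst a b)) := epi_pullback_snd _ _
    let P := pullback g (pullback.fst a b)
    have e2 : Epi (pullback.snd g' (pullback.snd g (pullback.fst a b) ≫ pullback.snd a b)) :=
      epi_pullback_snd _ _
    let t := pullback.snd g' (pullback.snd g (pullback.fst a b) ≫ pullback.snd a b)
    let r : pullback g' (pullback.snd g (pullback.fst a b) ≫ pullback.snd a b) ⟶
        pullback (g ≫ a) (g' ≫ b) :=
      pullback.lift (t ≫ pullback.fst _ _) (pullback.fst _ _) (by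
        simp only [t, Category.assoc]
        rw [pullback.condition_assoc (f := g'), reassoc_of% (pullback.condition (f := g))]
        simp [pullback.condition])
    have hr : r ≫ m = t ≫ pullback.snd g (pullback.fst a b) := by
      apply pullback.hom_ext
      · simp only [r, m, t, pullback.map, Category.assoc, pullback.lift_fst, pullback.lift_fst_assoc]
        rw [pullback.condition]
      · simp only [r, m, t, pullback.map, Category.assoc, pullback.lift_snd, pullback.lift_snd_assoc]
        rw [pullback.condition]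
    rw [← cancel_epi (pullback.snd g (pullback.fst a b)), ← cancel_epi t, ← Category.assoc t,
      ← Category.assoc t, ← hr, Category.assoc, Category.assoc, e]
  exact isT_of_epi h m

/-- Equalizers of maps from quotients of members to members. -/
lemma isT_equalizer (hS : IsQcClass S) {A K' : Sh J} (hA : IsT S A) (hK' : K' ∈ S) (a b : A ⟶ K') :
    IsT S (equalizer a b) := by
  obtain ⟨K, g, hK, hg⟩ := hA
  obtain ⟨K'', r, hK'', hr⟩ := hS.equal K hK K' hK' (g ≫ a) (g ≫ b)
  let m : equalizer (g ≫ a) (g ≫ b) ⟶ equalizer a b :=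
    equalizer.lift (equalizer.ι _ _ ≫ g) (by
      rw [Category.assoc, Category.assoc]
      exact equalizer.condition _ _)
  have hsq : IsPullback m (equalizer.ι (g ≫ a) (g ≫ b)) (equalizer.ι a b) g :=
    ⟨⟨equalizer.lift_ι _ _⟩, ⟨PullbackCone.IsLimit.mk _
      (fun c => equalizer.lift c.snd (by
        rw [← Category.assoc, ← Category.assoc, ← c.condition, Category.assoc, Category.assoc,
          equalizer.condition]))
      (fun c => by
        refine equalizer.hom_ext ?_
        rw [Category.assoc, equalizer.lift_ι, equalizer.lift_ι_assoc, c.condition])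
      (fun c => equalizer.lift_ι _ _)
      (fun c k h1 h2 => equalizer.hom_ext (h2.trans (equalizer.lift_ι _ _).symm))⟩⟩
  have hg' : EF fun _ : PUnit.{u + 1} => g := fun W p q e => (cancel_epi g).1 (e ⟨⟩)
  have : Epi m := ⟨fun {W} p q e => EF.bc hg' _ (fun _ => hsq.flip) W p q fun _ => e⟩
  have := hr
  exact ⟨K'', r ≫ m, hK'', inferInstance⟩

lemma isT_pullback_mem (hS : IsQcClass S) {A B L : Sh J} (hA : A ∈ S) (hB : B ∈ S) (hL : L ∈ S)
    (a : A ⟶ L) (b : B ⟶ L) : IsT S (pullback a b) := by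
  refine isT_of_iso (isT_equalizer hS (hS.prod A hA B hB) hL (prod.fst ≫ a) (prod.snd ≫ b)) ?_
  exact
    { hom := pullback.lift (equalizer.ι _ _ ≫ prod.fst) (equalizer.ι _ _ ≫ prod.snd) (by
        rw [Category.assoc, Category.assoc]
        exact equalizer.condition _ _)
      inv := equalizer.lift (prod.lift (pullback.fst a b) (pullback.snd a b)) (by
        rw [prod.lift_fst_assoc, prod.lift_snd_assoc, pullback.condition])
      hom_inv_id := by
        refine equalizer.hom_ext ?_
        apply Limits.prod.hom_ext <;> simp [pullback.lift_fst, pullback.lift_snd, pullback.lift_fst_assoc, pullback.lift_snd_assoc,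
          prod.lift_fst, prod.lift_snd, prod.lift_fst_assoc, prod.lift_snd_assoc, equalizer.lift_ι,
          equalizer.lift_ι_assoc]
      inv_hom_id := by apply pullback.hom_ext <;> simp [pullback.lift_fst, pullback.lift_snd, pullback.lift_fst_assoc, pullback.lift_snd_assoc,
          prod.lift_fst, prod.lift_snd, prod.lift_fst_assoc, prod.lift_snd_assoc, equalizer.lift_ι,
          equalizer.lift_ι_assoc] }

lemma isQ_of_mem (hS : IsQcClass S) {K : Sh J} (hK : K ∈ S) : IsQ S K :=
  ⟨isT_of_mem hK, fun _ _ h h' a b => isT_pullback_mem hS h h' hK a b⟩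

lemma isQ_prod (hS : IsQcClass S) {K K' : Sh J} (hK : K ∈ S) (hK' : K' ∈ S) : IsQ S (K ⨯ K') := by
  refine ⟨hS.prod K hK K' hK', fun A B hA hB a b => ?_⟩
  refine isT_of_iso (isT_equalizer hS
    (isT_pullback_mem hS hA hB hK (a ≫ prod.fst) (b ≫ prod.fst)) hK'
    (pullback.fst _ _ ≫ a ≫ prod.snd) (pullback.snd _ _ ≫ b ≫ prod.snd)) ?_
  exact
    { hom := pullback.lift (equalizer.ι _ _ ≫ pullback.fst _ _)
        (equalizer.ι _ _ ≫ pullback.snd _ _) (by
        apply Limits.prod.hom_ext
        · simp only [Category.assoc]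
          rw [pullback.condition]
        · simp only [Category.assoc]
          exact equalizer.condition _ _)
      inv := equalizer.lift (pullback.lift (pullback.fst a b) (pullback.snd a b) (by
          rw [← Category.assoc, pullback.condition, Category.assoc])) (by
        rw [pullback.lift_fst_assoc, pullback.lift_snd_assoc, ← Category.assoc, pullback.condition,
          Category.assoc])
      hom_inv_id := by
        refine equalizer.hom_ext ?_
        apply pullback.hom_ext <;> simp [pullback.lift_fst, pullback.lift_snd, pullback.lift_fst_assoc, pullback.lift_snd_assoc,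
          prod.lift_fst, prod.lift_snd, prod.lift_fst_assoc, prod.lift_snd_assoc, equalizer.lift_ι,
          equalizer.lift_ι_assoc]
      inv_hom_id := by apply pullback.hom_ext <;> simp [pullback.lift_fst, pullback.lift_snd, pullback.lift_fst_assoc, pullback.lift_snd_assoc,
          prod.lift_fst, prod.lift_snd, prod.lift_fst_assoc, prod.lift_snd_assoc, equalizer.lift_ι,
          equalizer.lift_ι_assoc] }

/-- `Q` is closed under fibre products. -/
lemma isQ_pullback (hS : IsQcClass S) {L₁ L₂ L : Sh J} (h₁ : IsQ S L₁) (h₂ : IsQ S L₂)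
    (hL : IsQ S L) (f : L₁ ⟶ L) (g : L₂ ⟶ L) : IsQ S (pullback f g) := by
  refine ⟨isT_pullback hL h₁.1 h₂.1 f g, fun A B hA hB a b => ?_⟩
  refine isT_of_iso (isT_pullback (isQ_prod hS hA hB)
    (h₁.2 A B hA hB (a ≫ pullback.fst f g) (b ≫ pullback.fst f g))
    (h₂.2 A B hA hB (a ≫ pullback.snd f g) (b ≫ pullback.snd f g))
    (prod.lift (pullback.fst _ _) (pullback.snd _ _))
    (prod.lift (pullback.fst _ _) (pullback.snd _ _))) ?_
  have c : pullback.fst (prod.lift (pullback.fst (a ≫ pullback.fst f g) (b ≫ pullback.fst f g))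
      (pullback.snd _ _)) (prod.lift (pullback.fst (a ≫ pullback.snd f g) (b ≫ pullback.snd f g))
      (pullback.snd _ _)) ≫ prod.lift (pullback.fst _ _) (pullback.snd _ _) =
    pullback.snd _ _ ≫ prod.lift (pullback.fst _ _) (pullback.snd _ _) := pullback.condition
  have c1 := congrArg (· ≫ prod.fst) c
  have c2 := congrArg (· ≫ prod.snd) c
  simp only [Category.assoc, prod.lift_fst, prod.lift_snd] at c1 c2
  exact
    { hom := pullback.lift (pullback.fst _ _ ≫ pullback.fst _ _)
        (pullback.fst _ _ ≫ pullback.snd _ _) (by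
        apply pullback.hom_ext
        · simp only [Category.assoc]
          rw [pullback.condition]
        · simp only [Category.assoc]
          rw [reassoc_of% c1, reassoc_of% c2, pullback.condition])
      inv := pullback.lift
        (pullback.lift (pullback.fst a b) (pullback.snd a b) (by
          rw [← Category.assoc, pullback.condition, Category.assoc]))
        (pullback.lift (pullback.fst a b) (pullback.snd a b) (by
          rw [← Category.assoc, pullback.condition, Category.assoc]))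
        (by apply Limits.prod.hom_ext <;> simp [pullback.lift_fst, pullback.lift_snd, pullback.lift_fst_assoc, pullback.lift_snd_assoc,
          prod.lift_fst, prod.lift_snd, prod.lift_fst_assoc, prod.lift_snd_assoc, equalizer.lift_ι,
          equalizer.lift_ι_assoc])
      hom_inv_id := by
        apply pullback.hom_ext <;> apply pullback.hom_ext <;> simp [pullback.lift_fst, pullback.lift_snd, pullback.lift_fst_assoc, pullback.lift_snd_assoc, c1, c2]
      inv_hom_id := by apply pullback.hom_ext <;> simp [pullback.lift_fst, pullback.lift_snd, pullback.lift_fst_assoc, pullback.lift_snd_assoc,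
          prod.lift_fst, prod.lift_snd, prod.lift_fst_assoc, prod.lift_snd_assoc, equalizer.lift_ι,
          equalizer.lift_ι_assoc] }

lemma isQ_of_iso {L L' : Sh J} (h : IsQ S L) (e : L ≅ L') : IsQ S L' :=
  ⟨isT_of_iso h.1 e, fun A B hA hB a b => isT_of_iso (h.2 A B hA hB (a ≫ e.inv) (b ≫ e.inv))
    { hom := pullback.lift (pullback.fst _ _) (pullback.snd _ _) (by
        rw [← cancel_mono e.inv, Category.assoc, Category.assoc, pullback.condition])
      inv := pullback.lift (pullback.fst _ _) (pullback.snd _ _) (by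
        rw [← Category.assoc, pullback.condition, Category.assoc])
      hom_inv_id := by apply pullback.hom_ext <;> simp [pullback.lift_fst, pullback.lift_snd, pullback.lift_fst_assoc, pullback.lift_snd_assoc,
          prod.lift_fst, prod.lift_snd, prod.lift_fst_assoc, prod.lift_snd_assoc, equalizer.lift_ι,
          equalizer.lift_ι_assoc]
      inv_hom_id := by apply pullback.hom_ext <;> simp [pullback.lift_fst, pullback.lift_snd, pullback.lift_fst_assoc, pullback.lift_snd_assoc,
          prod.lift_fst, prod.lift_snd, prod.lift_fst_assoc, prod.lift_snd_assoc, equalizer.lift_ι,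
          equalizer.lift_ι_assoc] }⟩

lemma isQ_level (hS : IsQcClass S) {K' K : Sh J} (f : K' ⟶ K) (hK' : IsQ S K') (hK : IsQ S K)
    (n : ℕ) : IsQ S (level f n) := by
  induction n with
  | zero => exact isQ_of_iso hK' (Cohom.levelZeroIso f).symm
  | succ n ih =>
    exact isQ_of_iso (isQ_pullback hS ih hK' hK (Cohom.levelBase f n) f)
      (Cohom.isPullback_level f n).isoPullback.symm

lemma hasNerves (hS : IsQcClass S) : Cohom.HasNerves (IsQ S) := by
  intro K hK P e he
  obtain ⟨K₀, g, hK₀, hg⟩ := hK.1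
  have := he
  have := hg
  obtain ⟨K', k, hK', hk⟩ := hS.refine' _ K₀ (pullback.snd e g) hK₀ (epi_pullback_snd e g)
  have h1 : (k ≫ pullback.fst e g) ≫ e = (k ≫ pullback.snd e g) ≫ g := by
    rw [Category.assoc, Category.assoc, pullback.condition]
  refine ⟨K', k ≫ pullback.fst e g, ?_, fun n => isQ_level hS _ (isQ_of_mem hS hK') hK n⟩
  rw [h1]
  infer_instance

variable {Λ : Type u} [SmallCategory Λ] [IsFiltered Λ]

/-- Maps from a member to a filtered colimit lift to a stage. -/
lemma exists_lift_mem (hS : IsQcClass S) (D : Λ ⥤ Sh J) {L : Sh J} (hL : IsQ S L)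
    (x : L ⟶ colimit D) : ∃ (i : Λ) (s : L ⟶ D.obj i), s ≫ colimit.ι D i = x := by
  obtain ⟨K₀, g, hK₀, hg⟩ := hL.1
  have := hg
  have hd : Epi (Sigma.desc fun i => colimit.ι D i) :=
    ⟨fun {W} a b e => colimit.hom_ext fun i => by simpa using Sigma.ι D.obj i ≫= e⟩
  obtain ⟨K, k, hK, hk⟩ := hS.refine' _ K₀ (pullback.snd (Sigma.desc fun i => colimit.ι D i) (g ≫ x))
    hK₀ (epi_pullback_snd _ _)
  let p := (k ≫ pullback.snd _ _) ≫ g
  have hp : Epi p := inferInstance
  let φ := k ≫ pullback.fst (Sigma.desc fun i => colimit.ι D i) (g ≫ x)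
  have hφ : φ ≫ Sigma.desc (fun i => colimit.ι D i) = p ≫ x := by
    simp only [φ, p, Category.assoc]
    rw [pullback.condition]
  have hι : EF fun i => Sigma.ι D.obj i := fun W a b e => Sigma.hom_ext _ _ e
  obtain ⟨s, hs⟩ := (qc_iff _).1 (hS.qc K hK) _ _ _ (hι.pullback_snd φ)
  obtain ⟨i₀, hi₀⟩ : ∃ T : Λ, ∀ m : s, Nonempty (m.1 ⟶ T) := by
    classical
    obtain ⟨T, hT⟩ := IsFiltered.sup_objs_exists s
    exact ⟨T, fun m => hT m.2⟩
  obtain ⟨y, hy⟩ := hs.exists_desc
    (fun m => pullback.fst (Sigma.ι D.obj m.1) φ ≫ D.map (hi₀ m).some) (fun m n => by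
    rcases eq_or_ne m n with rfl | h
    · have := inj_mono (c := Cofan.mk _ (Sigma.ι D.obj)) (coproductIsCoproduct _) m.1
      have : Mono (Sigma.ι D.obj m.1) := this
      exact congrArg (· ≫ _) ((cancel_mono (pullback.snd (Sigma.ι D.obj m.1) φ)).1 pullback.condition)
    · refine (isInitial_inter (c := Cofan.mk _ (Sigma.ι D.obj)) (coproductIsCoproduct _)
        (fun hh => h (Subtype.ext hh))
        (pullback.fst (pullback.snd (Sigma.ι D.obj m.1) φ) (pullback.snd (Sigma.ι D.obj n.1) φ) ≫
          pullback.fst _ _)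
        (pullback.snd (pullback.snd (Sigma.ι D.obj m.1) φ) (pullback.snd (Sigma.ι D.obj n.1) φ) ≫
          pullback.fst _ _) ?_).some.hom_ext _ _
      simp only [Cofan.inj, Cofan.mk_ι_app, Category.assoc]
      rw [pullback.condition, pullback.condition, ← Category.assoc, pullback.condition,
        Category.assoc])
  have hy' : y ≫ colimit.ι D i₀ = p ≫ x := hs _ _ _ fun m => by
    rw [← Category.assoc, hy m, Category.assoc, colimit.w, ← hφ, ← Category.assoc,
      ← pullback.condition, Category.assoc, Sigma.ι_desc]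
  have hqc : IsQC (pullback p p) := qc_of_isT hS ((hL).2 K K hK hK p p)
  obtain ⟨k', a, ha⟩ := hom_eq D hqc (pullback.fst p p ≫ y) (pullback.snd p p ≫ y) (by
    rw [Category.assoc, Category.assoc, hy', ← Category.assoc, pullback.condition, Category.assoc])
  have hp' : EF fun _ : PUnit.{u + 1} => p := fun W a b e => (cancel_epi p).1 (e ⟨⟩)
  obtain ⟨z, hz⟩ := hp'.exists_desc (fun _ => y ≫ D.map a) (fun _ _ =>
    (Category.assoc _ _ _).symm.trans (ha.trans (Category.assoc _ _ _)))
  refine ⟨k', z, (cancel_epi p).1 ?_⟩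
  rw [← Category.assoc, hz ⟨⟩, Category.assoc, colimit.w, hy']

lemma exists_stage (hS : IsQcClass S) (D : Λ ⥤ Sheaf J AddCommGrpCat.{u}) {K : Sh J} (hK : IsQ S K)
    (x : (freeSh J).obj K ⟶ colimit D) :
    ∃ (i : Λ) (y : (freeSh J).obj K ⟶ D.obj i), y ≫ colimit.ι D i = x := by
  let U := sheafCompose J (forget AddCommGrpCat.{u})
  let e : colimit (Cohom.setDiag D) ≅ U.obj (colimit D) := (preservesColimitIso U D).symm
  obtain ⟨i, s, hs⟩ := exists_lift_mem hS (Cohom.setDiag D) hK
    ((freeShAdj J).homEquiv K _ x ≫ e.inv)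
  refine ⟨i, ((freeShAdj J).homEquiv K _).symm s, ((freeShAdj J).homEquiv K _).injective ?_⟩
  rw [(freeShAdj J).homEquiv_naturality_right, Equiv.apply_symm_apply]
  rw [← cancel_mono e.inv, Category.assoc]
  refine Eq.trans ?_ hs
  congr 1
  exact ι_preservesColimitIso_hom U D i

lemma acyclicOn_colimit (hS : IsQcClass S) (D : Λ ⥤ Sheaf J AddCommGrpCat.{u})
    (hD : ∀ i, Cohom.AcyclicOn (IsQ S) (D.obj i)) : Cohom.AcyclicOn (IsQ S) (colimit D) := by
  refine Cohom.acyclicOn_of_exactHom (hasNerves hS) fun f hf hK hlev q => ?_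
  intro x hx
  obtain ⟨i, y, hy⟩ := exists_stage hS D (hlev (q + 1)) x
  obtain ⟨k, a, ha⟩ := Cohom.eventually_zero D (qc_of_isT hS (hlev (q + 2)).1)
    ((nerveP f).d (q + 2) (q + 1) ≫ y)
    ((Category.assoc _ _ _).trans ((congrArg ((nerveP f).d (q + 2) (q + 1) ≫ ·) hy).trans hx))
  have := hf
  obtain ⟨z, hz⟩ := Cohom.exactHom_of_acyclicOn f hK hlev q (hD k) (y ≫ D.map a)
    ((Category.assoc _ _ _).symm.trans ha)
  refine ⟨z ≫ colimit.ι D k, ?_⟩
  refine ((Category.assoc _ _ _).symm.trans (congrArg (· ≫ colimit.ι D k) hz)).trans ?_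
  exact ((Category.assoc _ _ _).trans (congrArg (y ≫ ·) (colimit.w D a))).trans hy

variable (Λ) in
theorem colimAcyclic (hS : IsQcClass S) {K : Sh J} (hK : IsQ S K) :
    ExtColim.ColimAcyclic Λ ((freeSh J).obj K) := by
  refine ⟨fun D => ⟨fun x => ?_, fun i y hy => ?_⟩, fun E hE' n => ?_⟩
  · obtain ⟨s, rfl⟩ := (Ext.mk₀_bijective _ _).2 x
    obtain ⟨i, y, hy⟩ := exists_stage hS D hK s
    exact ⟨i, Ext.mk₀ y, by rw [ExtColim.push, Ext.mk₀_comp_mk₀, hy]⟩
  · obtain ⟨t, rfl⟩ := (Ext.mk₀_bijective _ _).2 y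
    rw [ExtColim.push, Ext.mk₀_comp_mk₀, ← Ext.mk₀_zero] at hy
    obtain ⟨k, a, ha⟩ := Cohom.eventually_zero D (qc_of_isT hS hK.1) t
      ((Ext.mk₀_bijective _ _).1 hy)
    exact ⟨k, a, by rw [ExtColim.push, Ext.mk₀_comp_mk₀, ha, Ext.mk₀_zero]⟩
  · exact acyclicOn_colimit hS E (fun i => haveI := hE' i; Cohom.acyclicOn_injective _) K hK n

/-- Cohomology of the topos preserves filtered colimits. -/
theorem preservesColimitsOfShape (hS : IsQcClass S) (h1 : ∃ K ∈ S, Epi (terminal.from K)) (p : ℕ) :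
    PreservesColimitsOfShape Λ
      (Sheaf.functorH J p : Sheaf J AddCommGrpCat.{u} ⥤ AddCommGrpCat.{u}) := by
  obtain ⟨K₀, hK₀, he⟩ := h1
  have hT : IsQ S (⊤_ (Sh J)) := ⟨⟨K₀, _, hK₀, he⟩, fun A B hA hB a b => isT_of_iso
    (hS.prod A hA B hB)
    { hom := pullback.lift prod.fst prod.snd (Subsingleton.elim _ _)
      inv := prod.lift (pullback.fst a b) (pullback.snd a b)
      hom_inv_id := by apply Limits.prod.hom_ext <;> simp [pullback.lift_fst, pullback.lift_snd, pullback.lift_fst_assoc, pullback.lift_snd_assoc,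
          prod.lift_fst, prod.lift_snd, prod.lift_fst_assoc, prod.lift_snd_assoc, equalizer.lift_ι,
          equalizer.lift_ι_assoc]
      inv_hom_id := by apply pullback.hom_ext <;> simp [pullback.lift_fst, pullback.lift_snd, pullback.lift_fst_assoc, pullback.lift_snd_assoc,
          prod.lift_fst, prod.lift_snd, prod.lift_fst_assoc, prod.lift_snd_assoc, equalizer.lift_ι,
          equalizer.lift_ι_assoc] }⟩
  have := (CohomTop.colimAcyclic_of_iso (CohomTop.freeTopIso J)
    (colimAcyclic Λ hS hT)).preservesColimitsOfShape p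
  exact preservesColimitsOfShape_of_natIso (NatIso.ofComponents (fun F => Iso.refl _) (fun f => rfl) :
    (extFunctor.{u} p).obj (op ((constantSheaf J AddCommGrpCat.{u}).obj
      (AddCommGrpCat.of (ULift.{u} ℤ)))) ≅ Sheaf.functorH J p)

end Groth.Agent.Lib.CohomColim.QcClass
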