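import Groth.Agent.Lib.ToposFin.RpushColim
import Mathlib.CategoryTheory.Limits.Preserves.Shapes.Terminal

/-!
# Higher direct images commute with a colimit when cohomology does on a covering class
-/

universe u

open CategoryTheory Limits Opposite Abelian

namespace Groth.Agent.Lib.CohomColim.RpushCover

open Groth.Agent.Lib.ToposFin Groth.Agent.Lib.SiteCoh Groth.Agent.Lib.SpecSeq Groth.Agent.Lib.ModSS29

variable {C D : Type u} [SmallCategory C] [SmallCategory D]
  {J : GrothendieckTopology C} (K : GrothendieckTopology D) (u : D ⥤ C) [u.IsContinuous K J]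

/-- The derived presheaf direct image at an object is cohomology. -/
noncomputable def evalIso (p : ℕ) (V : D) :
    (RpushColim.pushPsh (J := J) u).rightDerived p ⋙
        (evaluation Dᵒᵖ AddCommGrpCat.{u}).obj (op V) ≅
      (Sheaf.cohomologyPresheafFunctor J p).flip.obj (op (u.obj V)) :=
  ((HomExtNat.rightDerivedNatIso (CohCx.freeSheaf J (u.obj V)) p).symm ≪≫
    HomExtNat.rightDerivedMapIso (RpushColim.secIso u V).symm p ≪≫
    DerivedNat.postIso (RpushColim.pushPsh u)
      ((evaluation Dᵒᵖ AddCommGrpCat.{u}).obj (op V)) p).symm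

variable {K}

/-- A map of presheaves bijective on the members of covering families becomes an isomorphism. -/
lemma isIso_sheafify {P Q : Dᵒᵖ ⥤ AddCommGrpCat.{u}} (c : P ⟶ Q)
    (h : ∀ V : D, ∃ (κ : Type u) (Y : κ → D) (g : ∀ k, Y k ⟶ V),
      Sieve.ofArrows Y g ∈ K V ∧ ∀ k, IsIso (c.app (op (Y k)))) :
    IsIso ((presheafToSheaf K AddCommGrpCat.{u}).map c) := by
  rw [← GrothendieckTopology.W_iff, GrothendieckTopology.W_iff_isLocallyBijective]
  refine ⟨⟨fun {V} x y hxy => ?_⟩, ⟨fun {V} s => ?_⟩⟩
  · obtain ⟨κ, Y, g, hg, hc⟩ := h V.unop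
    refine K.superset_covering ?_ hg
    rw [Sieve.ofArrows, Sieve.generate_le_iff, Presieve.ofArrows_le_iff]
    intro k
    have hinj : Function.Injective (c.app (op (Y k))) :=
      ((ConcreteCategory.isIso_iff_bijective _).1 (hc k)).1
    apply hinj
    have h1 := NatTrans.naturality_apply c (g k).op x
    have h2 := NatTrans.naturality_apply c (g k).op y
    exact h1.trans ((congrArg (Q.map (g k).op) hxy).trans h2.symm)
  · obtain ⟨κ, Y, g, hg, hc⟩ := h V
    refine K.superset_covering ?_ hg
    rw [Sieve.ofArrows, Sieve.generate_le_iff, Presieve.ofArrows_le_iff]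
    intro k
    exact ((ConcreteCategory.isIso_iff_bijective _).1 (hc k)).2 _

theorem preservesColimit {ι : Type u} [SmallCategory ι] (F : ι ⥤ Sheaf J AddCommGrpCat.{u}) (p : ℕ)
    (h : ∀ V : D, ∃ (κ : Type u) (Y : κ → D) (g : ∀ k, Y k ⟶ V), Sieve.ofArrows Y g ∈ K V ∧
      ∀ k, PreservesColimit F
        ((Sheaf.cohomologyPresheafFunctor J p).flip.obj (op (u.obj (Y k))))) :
    PreservesColimit F (CohSite.Rpush J K u p) := by
  let Q := (RpushColim.pushPsh (J := J) u).rightDerived p
  let L := presheafToSheaf K AddCommGrpCat.{u}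
  haveI : PreservesColimitsOfShape ι L :=
    (sheafificationAdjunction K AddCommGrpCat.{u}).leftAdjoint_preservesColimits.preservesColimitsOfShape
  have hc : IsIso (L.map (colimit.post F Q)) := by
    refine isIso_sheafify _ fun V => ?_
    obtain ⟨κ, Y, g, hg, hp⟩ := h V
    refine ⟨κ, Y, g, hg, fun k => ?_⟩
    let ev := (evaluation Dᵒᵖ AddCommGrpCat.{u}).obj (op (Y k))
    haveI := hp k
    haveI : PreservesColimit F (Q ⋙ ev) :=
      preservesColimit_of_natIso F (evalIso u p (Y k)).symm
    change IsIso (ev.map (colimit.post F Q))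
    rw [show ev.map (colimit.post F Q) =
      inv (colimit.post (F ⋙ Q) ev) ≫ colimit.post F (Q ⋙ ev) from by
        rw [IsIso.eq_inv_comp, colimit.post_post]]
    infer_instance
  haveI : PreservesColimit F (Q ⋙ L) := by
    apply (config := { allowSynthFailures := true }) preservesColimit_of_isIso_post (Q ⋙ L)
    rw [← colimit.post_post]
    infer_instance
  exact preservesColimit_of_natIso F (RpushColim.rpushIso u p).symm

end Groth.Agent.Lib.CohomColim.RpushCover
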